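import Mathlib.Algebra.Module.FinitePresentation
import Mathlib.Algebra.Category.ModuleCat.Basic
import Mathlib.Algebra.Category.ModuleCat.EpiMono
import Mathlib.CategoryTheory.Preadditive.LeftExact
import Mathlib.CategoryTheory.Preadditive.Biproducts
import Mathlib.CategoryTheory.Preadditive.AdditiveFunctor
import Mathlib.CategoryTheory.Preadditive.FunctorCategory
import Mathlib.CategoryTheory.Limits.Constructions.FiniteProductsOfBinaryProducts
import Mathlib.CategoryTheory.Limits.Preserves.Shapes.Kernels
import Mathlib.Tactic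

/-!
# Right exact functors on finitely presented modules with a prescribed value
-/

set_option autoImplicit false
set_option linter.style.haveILetI false
set_option backward.isDefEq.respectTransparency false
set_option backward.isDefEq.respectTransparency.types false

universe u v' u'

open CategoryTheory CategoryTheory.Limits

namespace Groth.Agent.FpFunctor

variable (A : Type u) [CommRing A]

/-- Finitely presented modules. -/
abbrev FP : Type (u + 1) :=
  ObjectProperty.FullSubcategory (fun M : ModuleCat.{u} A => Module.FinitePresentation A M)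

variable {A}

instance (M : FP A) : Module.FinitePresentation A M.obj := M.2

/-- Cokernel of a map of finitely presented modules. -/
noncomputable def quot {M N : FP A} (g : M ⟶ N) : FP A :=
  ⟨ModuleCat.of A (N.obj ⧸ LinearMap.range g.hom.hom), by
    haveI : Module.Finite A M.obj := inferInstance
    exact Module.finitePresentation_of_surjective (Submodule.mkQ _) (Submodule.mkQ_surjective _)
      (by rw [Submodule.ker_mkQ]; exact Module.Finite.iff_fg.1 (Module.Finite.range g.hom.hom))⟩

/-- The projection to the cokernel. -/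
noncomputable def quotπ {M N : FP A} (g : M ⟶ N) : N ⟶ quot g :=
  ObjectProperty.homMk (ModuleCat.ofHom (Submodule.mkQ _))

lemma comp_quotπ {M N : FP A} (g : M ⟶ N) : g ≫ quotπ g = 0 := by
  apply ObjectProperty.hom_ext
  refine ModuleCat.hom_ext (LinearMap.ext fun x => ?_)
  exact (Submodule.Quotient.mk_eq_zero _).2 ⟨x, rfl⟩

/-- The quotient is a cokernel. -/
noncomputable def isColimitQuot {M N : FP A} (g : M ⟶ N) :
    IsColimit (CokernelCofork.ofπ (quotπ g) (comp_quotπ g)) :=
  CokernelCofork.IsColimit.ofπ _ _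
    (fun {Z} k hk => ObjectProperty.homMk (ModuleCat.ofHom (Submodule.liftQ _ k.hom.hom (by
      rintro _ ⟨x, rfl⟩
      exact LinearMap.congr_fun (congrArg (fun t => t.hom.hom) hk) x))))
    (fun {Z} k hk => by apply ObjectProperty.hom_ext; ext x; rfl)
    (fun {Z} k hk m hm => by
      apply ObjectProperty.hom_ext
      refine ModuleCat.hom_ext (LinearMap.ext fun x => ?_)
      obtain ⟨x, rfl⟩ := Submodule.Quotient.mk_surjective _ x
      exact LinearMap.congr_fun (congrArg (fun t => t.hom.hom) hm) x)

instance : HasCokernels (FP A) := ⟨fun g => HasColimit.mk ⟨_, isColimitQuot g⟩⟩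

instance : HasZeroObject (FP A) :=
  ⟨⟨⟨ModuleCat.of A (Fin 0 → A), inferInstanceAs (Module.FinitePresentation A (Fin 0 → A))⟩, by
    rw [IsZero.iff_id_eq_zero]
    apply ObjectProperty.hom_ext
    refine ModuleCat.hom_ext (LinearMap.ext fun x => ?_)
    exact funext fun i => i.elim0⟩⟩

instance (M N : FP A) : HasBinaryBiproduct M N :=
  hasBinaryBiproduct_of_total
    { pt := ⟨ModuleCat.of A (M.obj × N.obj), inferInstanceAs (Module.FinitePresentation A (M.obj × N.obj))⟩
      fst := ObjectProperty.homMk (ModuleCat.ofHom (LinearMap.fst A M.obj N.obj))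
      snd := ObjectProperty.homMk (ModuleCat.ofHom (LinearMap.snd A M.obj N.obj))
      inl := ObjectProperty.homMk (ModuleCat.ofHom (LinearMap.inl A M.obj N.obj))
      inr := ObjectProperty.homMk (ModuleCat.ofHom (LinearMap.inr A M.obj N.obj))
      inl_fst := by apply ObjectProperty.hom_ext; ext x; rfl
      inl_snd := by apply ObjectProperty.hom_ext; ext x; rfl
      inr_fst := by apply ObjectProperty.hom_ext; ext x; rfl
      inr_snd := by apply ObjectProperty.hom_ext; ext x; rfl }
    (by
      apply ObjectProperty.hom_ext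
      refine ModuleCat.hom_ext (LinearMap.ext fun x => ?_)
      show ((x.1, 0) : M.obj × N.obj) + (0, x.2) = x
      simp)

instance : HasBinaryBiproducts (FP A) := ⟨fun M N => inferInstance⟩

instance : HasBinaryCoproducts (FP A) := hasBinaryCoproducts_of_hasColimit_pair _

variable {B : Type u'} [Category.{v'} B] [Preadditive B] {K : B} (κ : A →+* End K)

/-- `κ a` as an arrow. -/
def k (a : A) : K ⟶ K := κ a

lemma k_one : k κ 1 = 𝟙 K := map_one κ
lemma k_add (a c : A) : k κ (a + c) = k κ a + k κ c := map_add κ a c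
lemma k_mul (a c : A) : k κ (a * c) = k κ a ≫ k κ c := by
  rw [mul_comm]
  exact map_mul κ c a

/-- Maps out of a module which are linear for `κ`. -/
def Lin {M : Type u} [AddCommGroup M] [Module A M] {Y : B} (φ : M →+ (K ⟶ Y)) : Prop :=
  ∀ (a : A) (m : M), φ (a • m) = k κ a ≫ φ m

/-- A universal linear map out of `M`. -/
structure Corep (M : Type u) [AddCommGroup M] [Module A M] where
  /-- The value. -/
  X : B
  /-- The universal map. -/
  η : M →+ (K ⟶ X)
  lin : Lin κ η
  /-- The factorization. -/
  desc : ∀ {Y : B} (φ : M →+ (K ⟶ Y)), Lin κ φ → (X ⟶ Y)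
  fac : ∀ {Y : B} (φ : M →+ (K ⟶ Y)) (h : Lin κ φ) (m : M), η m ≫ desc φ h = φ m
  hom_ext : ∀ {Y : B} (f g : X ⟶ Y), (∀ m, η m ≫ f = η m ≫ g) → f = g

theorem exists_corep [HasFiniteBiproducts B] [HasCokernels B] (M : Type u) [AddCommGroup M] [Module A M]
    [Module.FinitePresentation A M] : Nonempty (Corep κ M) := by
  classical
  obtain ⟨q, p, s, r, hs, hex⟩ := Module.FinitePresentation.exists_fin' A M
  let P : B := ⨁ (fun _ : Fin q => K)
  let L : (Fin q → A) →+ (K ⟶ P) := AddMonoidHom.mk' (fun c => ∑ j, k κ (c j) ≫ biproduct.ι (fun _ : Fin q => K) j)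
    (fun c c' => by simp [k_add, Preadditive.add_comp, Finset.sum_add_distrib])
  have hL : Lin κ L := fun a c => by
    simp [L, k_mul, Preadditive.comp_sum]
  let ψ : (⨁ fun _ : Fin p => K) ⟶ P := biproduct.desc fun i => L (r (Pi.single i 1))
  let π : P ⟶ cokernel ψ := cokernel.π ψ
  have hzero : ∀ c, s c = 0 → L c ≫ π = 0 := fun c hc => by
    obtain ⟨d, rfl⟩ := (hex c).1 hc
    rw [pi_eq_sum_univ' d, map_sum, map_sum, Preadditive.sum_comp]
    refine Finset.sum_eq_zero fun i _ => ?_
    rw [map_smul, hL, Category.assoc,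
      show L (r (Pi.single i 1)) = biproduct.ι (fun _ : Fin p => K) i ≫ ψ from (biproduct.ι_desc (fun i => L (r (Pi.single i 1))) i).symm,
      Category.assoc, cokernel.condition, comp_zero, comp_zero]
  choose l hl using hs
  have hwd : ∀ c, L (l (s c)) ≫ π = L c ≫ π := fun c => by
    rw [← sub_eq_zero, ← Preadditive.sub_comp, ← map_sub]
    exact hzero _ (by rw [map_sub, hl, sub_self])
  let η : M →+ (K ⟶ cokernel ψ) := AddMonoidHom.mk' (fun m => L (l m) ≫ π) (fun m m' => by
    rw [← Preadditive.add_comp, ← map_add, ← hwd (l m + l m'), map_add, hl, hl])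
  have hη : ∀ c, η (s c) = L c ≫ π := hwd
  have hηlin : Lin κ η := fun a m => by
    show L (l (a • m)) ≫ π = k κ a ≫ L (l m) ≫ π
    rw [← Category.assoc, ← hL, ← hwd (a • l m), map_smul, hl]
  refine ⟨{ X := cokernel ψ, η := η, lin := hηlin,
            desc := fun {Y} φ hφ => cokernel.desc ψ (biproduct.desc fun j => φ (s (Pi.single j 1))) ?_,
            fac := fun {Y} φ hφ m => ?_, hom_ext := fun {Y} f g h => ?_ }⟩
  · have key : ∀ c, L c ≫ biproduct.desc (fun j => φ (s (Pi.single j 1))) = φ (s c) := fun c => by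
      conv_rhs => rw [pi_eq_sum_univ' c, map_sum, map_sum]
      simp [L, Preadditive.sum_comp, hφ _ _]
    refine biproduct.hom_ext' _ _ fun i => ?_
    rw [comp_zero, ← Category.assoc, biproduct.ι_desc, key, (hex _).2 ⟨_, rfl⟩, map_zero]
  · have key : ∀ c, L c ≫ biproduct.desc (fun j => φ (s (Pi.single j 1))) = φ (s c) := fun c => by
      conv_rhs => rw [pi_eq_sum_univ' c, map_sum, map_sum]
      simp [L, Preadditive.sum_comp, hφ _ _]
    show (L (l m) ≫ π) ≫ cokernel.desc ψ _ _ = φ m
    rw [Category.assoc, cokernel.π_desc, key, hl]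
  · rw [← cancel_epi π]
    refine biproduct.hom_ext' _ _ fun j => ?_
    have e : L (Pi.single j 1) = biproduct.ι (fun _ : Fin q => K) j := by
      show ∑ i, k κ ((Pi.single j 1 : Fin q → A) i) ≫ biproduct.ι (fun _ : Fin q => K) i = _
      rw [Finset.sum_eq_single j]
      · simp [k_one]
      · intro i _ hi
        rw [Pi.single_eq_of_ne hi, show k κ 0 = 0 from map_zero κ, zero_comp]
      · simp
    rw [← e, ← Category.assoc, ← Category.assoc, ← hη]
    exact h _

variable [HasFiniteBiproducts B] [HasCokernels B]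

/-- The chosen universal map. -/
noncomputable def corep (M : FP A) : Corep κ M.obj := (exists_corep κ M.obj).some

lemma lin_comp {M N : FP A} (g : M ⟶ N) {Y : B} {φ : N.obj →+ (K ⟶ Y)} (h : Lin κ φ) :
    Lin κ (φ.comp g.hom.hom.toAddMonoidHom) := fun a m => by
  show φ (g.hom.hom (a • m)) = _
  rw [map_smul, h]
  rfl

/-- The action on morphisms. -/
noncomputable def mapHom {M N : FP A} (g : M ⟶ N) : (corep κ M).X ⟶ (corep κ N).X :=
  (corep κ M).desc _ (lin_comp κ g (corep κ N).lin)

lemma η_mapHom {M N : FP A} (g : M ⟶ N) (m : M.obj) :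
    (corep κ M).η m ≫ mapHom κ g = (corep κ N).η (g.hom.hom m) :=
  (corep κ M).fac _ (lin_comp κ g (corep κ N).lin) m

lemma η_mapHom_assoc {M N : FP A} (g : M ⟶ N) (m : M.obj) {Z : B} (h : (corep κ N).X ⟶ Z) :
    (corep κ M).η m ≫ mapHom κ g ≫ h = (corep κ N).η (g.hom.hom m) ≫ h := by
  rw [← Category.assoc, η_mapHom]

/-- The functor. -/
noncomputable def F : FP A ⥤ B where
  obj M := (corep κ M).X
  map g := mapHom κ g
  map_id M := (corep κ M).hom_ext _ _ fun m => by
    rw [η_mapHom, Category.comp_id]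
    rfl
  map_comp f g := (corep κ _).hom_ext _ _ fun m => by
    rw [η_mapHom, η_mapHom_assoc, η_mapHom]
    rfl

instance : (F κ).Additive where
  map_add {M N f g} := (corep κ M).hom_ext _ _ fun m => by
    show (corep κ M).η m ≫ mapHom κ (f + g) = (corep κ M).η m ≫ (mapHom κ f + mapHom κ g)
    rw [η_mapHom, Preadditive.comp_add, η_mapHom, η_mapHom, ← map_add]
    rfl

/-- The image of a cokernel is a cokernel. -/
noncomputable def isColimitMap {M N : FP A} (g : M ⟶ N) :
    IsColimit (CokernelCofork.ofπ ((F κ).map (quotπ g)) (show (F κ).map g ≫ (F κ).map (quotπ g) = 0 by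
      rw [← (F κ).map_comp, comp_quotπ, (F κ).map_zero])) := by
  refine CokernelCofork.IsColimit.ofπ _ _ (fun {Y} f hf => (corep κ (quot g)).desc
    (QuotientAddGroup.lift (LinearMap.range g.hom.hom).toAddSubgroup
      (AddMonoidHom.mk' (fun n => (corep κ N).η n ≫ f) (fun a b => by rw [map_add, Preadditive.add_comp])) ?_) ?_)
    (fun {Y} f hf => ?_) (fun {Y} f hf m hm => ?_)
  · rintro _ ⟨x, rfl⟩
    show (corep κ N).η (g.hom.hom x) ≫ f = 0
    rw [← η_mapHom_assoc, show mapHom κ g ≫ f = 0 from hf, comp_zero]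
  · intro a x
    obtain ⟨x, rfl⟩ := Submodule.Quotient.mk_surjective _ x
    show (corep κ N).η (a • x) ≫ f = k κ a ≫ ((corep κ N).η x ≫ f)
    rw [(corep κ N).lin, Category.assoc]
  · refine (corep κ N).hom_ext _ _ fun n => ?_
    show (corep κ N).η n ≫ mapHom κ (quotπ g) ≫ _ = _
    rw [η_mapHom_assoc, (corep κ (quot g)).fac]
    rfl
  · refine (corep κ (quot g)).hom_ext _ _ fun x => ?_
    obtain ⟨x, rfl⟩ := Submodule.Quotient.mk_surjective _ x
    rw [(corep κ (quot g)).fac]
    show (corep κ (quot g)).η ((quotπ g).hom.hom x) ≫ m = (corep κ N).η x ≫ f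
    rw [← η_mapHom_assoc]
    exact congrArg (fun t => (corep κ N).η x ≫ t) hm

theorem preservesFiniteColimits : PreservesFiniteColimits (F κ) := by
  haveI : HasFiniteCoproducts (FP A) := hasFiniteCoproducts_of_has_binary_and_initial
  haveI : HasCoequalizers (FP A) := Preadditive.hasCoequalizers_of_hasCokernels
  haveI : ∀ {M N : FP A} (g : M ⟶ N), PreservesColimit (parallelPair g 0) (F κ) := fun g =>
    preservesColimit_of_preserves_colimit_cocone (isColimitQuot g)
      ((CokernelCofork.isColimitMapCoconeEquiv _ _).symm (isColimitMap κ g))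
  exact (F κ).preservesFiniteColimits_of_preservesCokernels

theorem exists_functor : ∃ (G : FP A ⥤ B) (_ : PreservesFiniteColimits G)
    (e : G.obj ⟨ModuleCat.of A A, inferInstanceAs (Module.FinitePresentation A A)⟩ ≅ K),
    ∀ a : A, G.map (ObjectProperty.homMk (ModuleCat.ofHom (LinearMap.lsmul A A a)) :
      (⟨ModuleCat.of A A, inferInstanceAs (Module.FinitePresentation A A)⟩ : FP A) ⟶
        ⟨ModuleCat.of A A, inferInstanceAs (Module.FinitePresentation A A)⟩) ≫ e.hom = e.hom ≫ κ a := by
  let R : FP A := ⟨ModuleCat.of A A, inferInstanceAs (Module.FinitePresentation A A)⟩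
  let kh : A →+ (K ⟶ K) := AddMonoidHom.mk' (k κ) (k_add κ)
  have hlin : Lin κ (M := A) kh := fun a m => k_mul κ a m
  let e : (F κ).obj R ≅ K :=
    { hom := (corep κ R).desc kh hlin
      inv := (corep κ R).η (1 : A)
      hom_inv_id := (corep κ R).hom_ext _ _ fun m => by
        rw [← Category.assoc, (corep κ R).fac]
        show k κ m ≫ (corep κ R).η (1 : A) = (corep κ R).η m ≫ 𝟙 _
        rw [Category.comp_id, ← (corep κ R).lin]
        exact congrArg (corep κ R).η (mul_one (show A from m))
      inv_hom_id := ((corep κ R).fac _ hlin (1 : A)).trans (k_one κ) }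
  refine ⟨F κ, preservesFiniteColimits κ, e, fun a => (corep κ R).hom_ext _ _ fun m => ?_⟩
  show (corep κ R).η m ≫ mapHom κ _ ≫ (corep κ R).desc kh hlin = (corep κ R).η m ≫ (corep κ R).desc kh hlin ≫ k κ a
  rw [η_mapHom_assoc, (corep κ R).fac, ← Category.assoc, (corep κ R).fac]
  show k κ (a * m) = k κ m ≫ k κ a
  rw [mul_comm a, k_mul]

end Groth.Agent.FpFunctor
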