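import Groth.Agent.FpFunctor.Basic

/-!
# Natural transformations between right exact functors on finitely presented modules
-/

set_option autoImplicit false
set_option linter.style.haveILetI false
set_option backward.isDefEq.respectTransparency false
set_option backward.isDefEq.respectTransparency.types false

universe u v' u'

open CategoryTheory CategoryTheory.Limits

namespace Groth.Agent.FpFunctor

variable {A : Type u} [CommRing A] {B : Type u'} [Category.{v'} B] [Preadditive B]

/-- The ring as an object. -/
noncomputable abbrev ring : FP A := ⟨ModuleCat.of A A, inferInstanceAs (Module.FinitePresentation A A)⟩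

/-- An element as a map out of the ring. -/
noncomputable def elt (M : FP A) (m : M.obj) : (ring : FP A) ⟶ M :=
  ObjectProperty.homMk (ModuleCat.ofHom (LinearMap.toSpanSingleton A M.obj m))

lemma elt_comp {M N : FP A} (m : M.obj) (g : M ⟶ N) : elt M m ≫ g = elt N (g.hom.hom m) := by
  apply ObjectProperty.hom_ext
  refine ModuleCat.hom_ext (LinearMap.ext_ring ?_)
  show g.hom.hom ((1 : A) • m) = (1 : A) • g.hom.hom m
  rw [one_smul, one_smul]

/-- A finite free cover with finitely generated kernel. -/
lemma exists_cover (M : FP A) : ∃ (q p : ℕ) (s : (⟨ModuleCat.of A (Fin q → A), inferInstanceAs (Module.FinitePresentation A (Fin q → A))⟩ : FP A) ⟶ M)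
    (r : (⟨ModuleCat.of A (Fin p → A), inferInstanceAs (Module.FinitePresentation A (Fin p → A))⟩ : FP A) ⟶ ⟨ModuleCat.of A (Fin q → A), inferInstanceAs (Module.FinitePresentation A (Fin q → A))⟩)
    (w : r ≫ s = 0), Nonempty (IsColimit (CokernelCofork.ofπ s w)) := by
  obtain ⟨q, p, s, r, hs, hex⟩ := Module.FinitePresentation.exists_fin' A M.obj
  refine ⟨q, p, ObjectProperty.homMk (ModuleCat.ofHom s), ObjectProperty.homMk (ModuleCat.ofHom r), ?_, ⟨?_⟩⟩
  · apply ObjectProperty.hom_ext
    exact ModuleCat.hom_ext (LinearMap.ext fun x => (hex (r x)).2 ⟨x, rfl⟩)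
  · refine CokernelCofork.IsColimit.ofπ _ _ (fun {Z} k hk => ObjectProperty.homMk (ModuleCat.ofHom
      ((Submodule.liftQ _ k.hom.hom (fun y hy => LinearMap.mem_ker.2 ?_)).comp
        (LinearMap.quotKerEquivOfSurjective s hs).symm.toLinearMap))) (fun {Z} k hk => ?_) (fun {Z} k hk m hm => ?_)
    · obtain ⟨x, rfl⟩ := (hex y).1 hy
      exact LinearMap.congr_fun (congrArg (fun t => t.hom.hom) hk) x
    · apply ObjectProperty.hom_ext
      refine ModuleCat.hom_ext (LinearMap.ext fun x => ?_)
      dsimp
      erw [show (LinearMap.quotKerEquivOfSurjective s hs).symm (s x) = Submodule.Quotient.mk x from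
        (LinearEquiv.symm_apply_eq _).2 (LinearMap.quotKerEquivOfSurjective_apply_mk s hs x).symm]
      rfl
    · apply ObjectProperty.hom_ext
      refine ModuleCat.hom_ext (LinearMap.ext fun y => ?_)
      obtain ⟨x, rfl⟩ := hs y
      dsimp
      erw [show (LinearMap.quotKerEquivOfSurjective s hs).symm (s x) = Submodule.Quotient.mk x from
        (LinearEquiv.symm_apply_eq _).2 (LinearMap.quotKerEquivOfSurjective_apply_mk s hs x).symm]
      exact LinearMap.congr_fun (congrArg (fun t => t.hom.hom) hm) x

/-- Coordinates. -/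
noncomputable def coord {q : ℕ} (j : Fin q) :
    (⟨ModuleCat.of A (Fin q → A), inferInstanceAs (Module.FinitePresentation A (Fin q → A))⟩ : FP A) ⟶ ring :=
  ObjectProperty.homMk (ModuleCat.ofHom (LinearMap.proj j))

lemma sum_coord (q : ℕ) :
    ∑ j : Fin q, coord j ≫ elt ⟨ModuleCat.of A (Fin q → A), inferInstanceAs (Module.FinitePresentation A (Fin q → A))⟩
      (Pi.single j (1 : A)) = 𝟙 _ := by
  apply ObjectProperty.hom_ext
  refine ModuleCat.hom_ext (LinearMap.ext fun x => ?_)
  rw [← ObjectProperty.ι_map, Functor.map_sum, ModuleCat.hom_sum, LinearMap.sum_apply]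
  exact (pi_eq_sum_univ' x).symm

variable [HasFiniteBiproducts B] [HasCokernels B] (F F' : FP A ⥤ B) [PreservesFiniteColimits F]
  [PreservesFiniteColimits F']

lemma additive_of_rightExact : F.Additive :=
  haveI := preservesBinaryBiproducts_of_preservesBinaryCoproducts F
  Functor.additive_of_preservesBinaryBiproducts F

lemma hom_ext {M : FP A} {Y : B} (f g : F.obj M ⟶ Y) (h : ∀ m, F.map (elt M m) ≫ f = F.map (elt M m) ≫ g) : f = g := by
  haveI := additive_of_rightExact F
  obtain ⟨q, p, s, r, w, ⟨hc⟩⟩ := exists_cover M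
  haveI : Epi (F.map s) := by
    haveI : Epi s := ⟨fun a b hab => Cofork.IsColimit.hom_ext hc hab⟩
    infer_instance
  rw [← cancel_epi (F.map s), ← Category.id_comp (F.map s), ← F.map_id, ← sum_coord, F.map_sum]
  simp only [Preadditive.sum_comp]
  refine Finset.sum_congr rfl fun j _ => ?_
  rw [F.map_comp, Category.assoc (F.map (coord j)), ← F.map_comp, elt_comp, Category.assoc, Category.assoc, h]

theorem exists_natTrans (φ : F.obj ring ⟶ F'.obj ring)
    (hφ : ∀ a : A, F.map (ObjectProperty.homMk (ModuleCat.ofHom (LinearMap.lsmul A A a)) : (ring : FP A) ⟶ ring) ≫ φ =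
      φ ≫ F'.map (ObjectProperty.homMk (ModuleCat.ofHom (LinearMap.lsmul A A a)) : (ring : FP A) ⟶ ring)) :
    ∃ t : F ⟶ F', t.app ring = φ := by
  haveI := additive_of_rightExact F
  haveI := additive_of_rightExact F'
  have hex : ∀ M : FP A, ∃ f : F.obj M ⟶ F'.obj M, ∀ m, F.map (elt M m) ≫ f = φ ≫ F'.map (elt M m) := fun M => by
    obtain ⟨q, p, s, r, w, ⟨hc⟩⟩ := exists_cover M
    let P : FP A := ⟨ModuleCat.of A (Fin q → A), inferInstanceAs (Module.FinitePresentation A (Fin q → A))⟩
    let h : F.obj P ⟶ F'.obj M := ∑ j, F.map (coord j) ≫ φ ≫ F'.map (elt M (s.hom.hom (Pi.single j (1 : A))))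
    have key : ∀ c : Fin q → A, F.map (elt P c) ≫ h = φ ≫ F'.map (elt M (s.hom.hom c)) := fun c => by
      have e1 : ∀ j, F.map (elt P c ≫ coord j) ≫ φ = φ ≫ F'.map (elt P c ≫ coord j) := fun j => by
        rw [show elt P c ≫ coord j = (ObjectProperty.homMk (ModuleCat.ofHom (LinearMap.lsmul A A (c j))) : (ring : FP A) ⟶ ring) from by
          apply ObjectProperty.hom_ext
          refine ModuleCat.hom_ext (LinearMap.ext_ring ?_)
          show ((1 : A) • c) j = c j * 1
          simp, hφ]
      have e2 : ∑ j, (elt P c ≫ coord j) ≫ elt P (Pi.single j (1 : A)) ≫ s = elt M (s.hom.hom c) := by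
        rw [← elt_comp c s]
        simp only [Category.assoc]
        rw [← Preadditive.comp_sum]
        congr 1
        simp only [← Category.assoc]
        rw [← Preadditive.sum_comp, sum_coord, Category.id_comp]
      rw [← e2, F'.map_sum, Preadditive.comp_sum, Preadditive.comp_sum]
      refine Finset.sum_congr rfl fun j _ => ?_
      rw [← Category.assoc (F.map (elt P c)), ← F.map_comp, ← Category.assoc, e1, F'.map_comp (elt P c ≫ coord j), elt_comp (Pi.single j (1 : A)) s,
        Category.assoc]
    have hzero : F.map r ≫ h = 0 := hom_ext F _ _ fun d => by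
      rw [← Category.assoc, ← F.map_comp, elt_comp, key, comp_zero]
      have : s.hom.hom (r.hom.hom d) = 0 := LinearMap.congr_fun (congrArg (fun t => t.hom.hom) w) d
      rw [this, show elt M 0 = 0 from by apply ObjectProperty.hom_ext; exact ModuleCat.hom_ext (LinearMap.ext fun x => smul_zero _),
        F'.map_zero, comp_zero]
    have hFc := CokernelCofork.mapIsColimit _ hc F
    obtain ⟨f, hf⟩ := CokernelCofork.IsColimit.desc' hFc h hzero
    refine ⟨f, fun m => ?_⟩
    have hs : Function.Surjective s.hom.hom := by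
      let Q := quotπ s
      have e : Q = 0 := Cofork.IsColimit.hom_ext hc ((comp_quotπ s).trans comp_zero.symm)
      intro y
      have := LinearMap.congr_fun (congrArg (fun t => t.hom.hom) e) y
      exact (Submodule.Quotient.mk_eq_zero _).1 this
    obtain ⟨c, rfl⟩ := hs m
    rw [← key, ← elt_comp c s, F.map_comp, Category.assoc]
    exact congrArg (fun t => F.map (elt P c) ≫ t) hf
  choose f hf using hex
  refine ⟨{ app := f, naturality := fun M N g => hom_ext F _ _ fun m => ?_ }, ?_⟩
  · rw [← Category.assoc, ← F.map_comp, elt_comp, hf, ← Category.assoc, hf, Category.assoc, ← F'.map_comp, elt_comp]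
  · have e : elt (ring : FP A) (1 : A) = 𝟙 _ := by
      apply ObjectProperty.hom_ext
      refine ModuleCat.hom_ext (LinearMap.ext_ring ?_)
      show (1 : A) • (1 : A) = 1
      simp
    simpa [e] using hf ring (1 : A)

theorem natTrans_ext (t t' : F ⟶ F') (h : t.app ring = t'.app ring) : t = t' :=
  NatTrans.ext (funext fun M => hom_ext F _ _ fun m => by rw [t.naturality, t'.naturality, h])

end Groth.Agent.FpFunctor
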